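import Cfsg.Agent.Lib.Comp.J2x.Base

set_option maxRecDepth 100000
set_option Elab.async false

namespace Cfsg.Lib.Comp.J2x

universe u

noncomputable def MuH0_1_R : List (List ℕ × ℕ) := [([1],1),
 ([2],1),
 ([1,2],2),
 ([3],1),
 ([1,3],2),
 ([2,3],3),
 ([1,2,3,2,3],2)]

noncomputable def MuH0_1_n_1 : Net :=
 (Net.cons 12 (nat_lit 0x600)
 (Net.cons 6 (nat_lit 0x8014)
 (Net.cons 3 (nat_lit 0x4080)
 (Net.cons 1 (nat_lit 0x208041)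
 (Net.cons 1 (nat_lit 0x92400)
 (Net.cons 1 (nat_lit 0x8000)
 (Net.cons 3 (nat_lit 0x4084)
 (Net.cons 6 (nat_lit 0x8014)
 (Net.cons 12 (nat_lit 0x600)
 Net.nil)))))))))

noncomputable def MuH0_1_n_2 : Net :=
 (Net.cons 12 (nat_lit 0xa00)
 (Net.cons 6 (nat_lit 0xa006)
 (Net.cons 3 (nat_lit 0x180)
 (Net.cons 1 (nat_lit 0x240048)
 (Net.cons 1 (nat_lit 0x400410)
 (Net.cons 1 (nat_lit 0x200008)
 (Net.cons 3 (nat_lit 0x3182)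
 (Net.cons 6 (nat_lit 0xa006)
 (Net.cons 12 (nat_lit 0xa00)
 Net.nil)))))))))

noncomputable def MuH0_1_n_3 : Net :=
 (Net.cons 12 (nat_lit 0x5c0)
 (Net.cons 6 (nat_lit 0x2020)
 (Net.cons 3 (nat_lit 0x2)
 (Net.cons 1 (nat_lit 0x1248)
 (Net.cons 1 (nat_lit 0x80482)
 (Net.cons 1 (nat_lit 0x240)
 (Net.cons 3 (nat_lit 0x4002)
 (Net.cons 6 (nat_lit 0x12020)
 (Net.cons 12 (nat_lit 0x5c0)
 Net.nil)))))))))

noncomputable def MuH0_1_n : List Net := [Net.nil,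
 MuH0_1_n_1,
 MuH0_1_n_2,
 MuH0_1_n_3]

theorem MuH0_1_n_ok : NetsOK 24 MuH0_1_n := netsOK_of (by decide +kernel)

theorem MuH0_1_n_rel : Rels (gp MuH0_1_n) MuH0_1_R := rels_of_relsB (k := 5) MuH0_1_n_ok (by norm_num) (by decide +kernel)

theorem MuH0_1_fin : finB 24 MuH0_1_n [1,2,3] 21 (runH 24 MuH0_1_n (fun x p => ptInv (nth Net.nil MuH0_1_n x) p) iv MuH0_1_R [] ([2,3].map fun x => [x]) 0 []
  [1,5,0,4,8,12,16,20,8,24,8,12,16,20,8,16]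
  (defsH 24 MuH0_1_n (ones 144) [1,2,3,1,2,3,1,2,3,1,2] (Nat.shiftLeft 1 0) 0)) = true := by decide +kernel

theorem MuH0_1_idx : Idx.{u} iv (MuH0_1_R ++ []) ([2,3].map fun x => [x]) [1,2,3] 21 :=
  Reach.idx MuH0_1_n_ok (reach_runH MuH0_1_n_ok (fun x p _ => ptInv_gp MuH0_1_n_ok x p) MuH0_1_n_rel (reach_defsH MuH0_1_n_ok _ _ _ _ _ _) _ _) MuH0_1_fin (by norm_num)

end Cfsg.Lib.Comp.J2x
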