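import Cfsg.Agent.Lib.Comp.J2x.MuH0_0
import Cfsg.Agent.Lib.Comp.J2x.MuH0_1
import Cfsg.Agent.Lib.Comp.J2x.MuH0_2
import Cfsg.Agent.Lib.Comp.J2x.MuH0_3
import Cfsg.Agent.Lib.Comp.J2x.Mu0
import Cfsg.Agent.Lib.Comp.J2x.Main
import Cfsg.Agent.Lib.Comp.Cover

set_option maxRecDepth 100000
set_option Elab.async false

namespace Cfsg.Lib.Comp.J2x

universe u

theorem MuH0_3_ord : Ord.{u} iv MuH0_3_R [2] 2 :=
  (MuH0_3_idx.ord_base).of_cons (cons_of_subset (by decide +kernel))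

theorem MuH0_2_ord : Ord.{u} iv MuH0_2_R [2,3] 8 :=
  (MuH0_2_idx.ord_step MuH0_3_ord).of_cons (cons_of_subset (by decide +kernel))

theorem MuH0_1_ord : Ord.{u} iv MuH0_1_R [1,2,3] 168 :=
  (MuH0_1_idx.ord_step MuH0_2_ord).of_cons (cons_of_subset (by decide +kernel))

theorem MuH0_0_ord : Ord.{u} iv MuH0_0_R [1,2,3,4] 6048 :=
  (MuH0_0_idx.ord_step MuH0_1_ord).of_cons (cons_of_subset (by decide +kernel))

noncomputable def MuH0_lb_n_1 : Net :=
 (Net.cons 20 (nat_lit 0xc0000)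
 (Net.cons 10 (nat_lit 0x38000000)
 (Net.cons 5 (nat_lit 0x70180401e)
 (Net.cons 1 (nat_lit 0x29024080a0)
 (Net.cons 1 (nat_lit 0x5000a5014a)
 (Net.cons 1 (nat_lit 0x28005280a0)
 (Net.cons 1 (nat_lit 0xa50000)
 (Net.cons 1 (nat_lit 0x408000)
 (Net.cons 5 (nat_lit 0x70180401e)
 (Net.cons 10 (nat_lit 0x38000000)
 (Net.cons 20 (nat_lit 0xc0000)
 Net.nil)))))))))))

noncomputable def MuH0_lb_n_2 : Net :=
 (Net.cons 20 (nat_lit 0x26e00)
 (Net.cons 10 (nat_lit 0x2c800340)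
 (Net.cons 5 (nat_lit 0x80401000)
 (Net.cons 1 (nat_lit 0x148001420)
 (Net.cons 1 (nat_lit 0x5280210802)
 (Net.cons 1 (nat_lit 0x2140501400)
 (Net.cons 1 (nat_lit 0x5280200000)
 (Net.cons 1 (nat_lit 0x140000000)
 (Net.cons 5 (nat_lit 0x80405008)
 (Net.cons 10 (nat_lit 0x2c800340)
 (Net.cons 20 (nat_lit 0x26e00)
 Net.nil)))))))))))

noncomputable def MuH0_lb_n_3 : Net :=
 (Net.cons 20 (nat_lit 0x8200)
 (Net.cons 10 (nat_lit 0x2000344)
 (Net.cons 5 (nat_lit 0x1204004)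
 (Net.cons 1 (nat_lit 0xa009084)
 (Net.cons 1 (nat_lit 0x290252002)
 (Net.cons 1 (nat_lit 0x108021004)
 (Net.cons 1 (nat_lit 0x280040800)
 (Net.cons 1 (nat_lit 0x400)
 (Net.cons 5 (nat_lit 0x1203c14)
 (Net.cons 10 (nat_lit 0x2000344)
 (Net.cons 20 (nat_lit 0x8200)
 Net.nil)))))))))))

noncomputable def MuH0_lb_n_4 : Net :=
 (Net.cons 20 (nat_lit 0xe00e0)
 (Net.cons 10 (nat_lit 0xf0000a0)
 (Net.cons 5 (nat_lit 0x200e04000)
 (Net.cons 1 (nat_lit 0x10a508021)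
 (Net.cons 1 (nat_lit 0x5010a50100)
 (Net.cons 1 (nat_lit 0x8428000)
 (Net.cons 1 (nat_lit 0xa50000)
 (Net.cons 1 (nat_lit 0x108000)
 (Net.cons 5 (nat_lit 0x200e04000)
 (Net.cons 10 (nat_lit 0xf0000a0)
 (Net.cons 20 (nat_lit 0xe00e0)
 Net.nil)))))))))))

noncomputable def MuH0_lb_n_64 : Net :=
 (Net.cons 5 (nat_lit 0x100000000)
 (Net.cons 1 (nat_lit 0x802101024)
 (Net.cons 1 (nat_lit 0x1200850108)
 (Net.cons 1 (nat_lit 0x800000080)
 (Net.cons 5 (nat_lit 0x10000001c)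
 Net.nil)))))

noncomputable def MuH0_lb_n_65 : Net :=
 (Net.cons 20 (nat_lit 0x40000)
 (Net.cons 10 (nat_lit 0x14000000)
 (Net.cons 5 (nat_lit 0x80804012)
 (Net.cons 1 (nat_lit 0x29025284a0)
 (Net.cons 1 (nat_lit 0x108424014a)
 (Net.cons 1 (nat_lit 0x21425200a0)
 (Net.cons 5 (nat_lit 0x240804012)
 (Net.cons 10 (nat_lit 0x14000000)
 (Net.cons 20 (nat_lit 0x40000)
 Net.nil)))))))))

noncomputable def MuH0_lb_n : List Net := (apd [Net.nil,
 MuH0_lb_n_1,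
 MuH0_lb_n_2,
 MuH0_lb_n_3,
 MuH0_lb_n_4,
 Net.nil,
 Net.nil,
 Net.nil,
 Net.nil,
 Net.nil,
 Net.nil,
 Net.nil,
 Net.nil,
 Net.nil,
 Net.nil,
 Net.nil,
 Net.nil,
 Net.nil,
 Net.nil,
 Net.nil,
 Net.nil,
 Net.nil,
 Net.nil,
 Net.nil,
 Net.nil,
 Net.nil,
 Net.nil,
 Net.nil,
 Net.nil,
 Net.nil,
 Net.nil,
 Net.nil,
 Net.nil,
 Net.nil,
 Net.nil,
 Net.nil,
 Net.nil,
 Net.nil,
 Net.nil,
 Net.nil]
 [Net.nil,
 Net.nil,
 Net.nil,
 Net.nil,
 Net.nil,
 Net.nil,
 Net.nil,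
 Net.nil,
 Net.nil,
 Net.nil,
 Net.nil,
 Net.nil,
 Net.nil,
 Net.nil,
 Net.nil,
 Net.nil,
 Net.nil,
 Net.nil,
 Net.nil,
 Net.nil,
 Net.nil,
 Net.nil,
 Net.nil,
 Net.nil,
 MuH0_lb_n_64,
 MuH0_lb_n_65])

theorem MuH0_lb_n_ok : NetsOK 40 MuH0_lb_n := netsOK_of (by decide +kernel)

theorem MuH0_lb : 6048 ≤ Nat.card (cl (gp nets) [1,2,3,4]) :=
  lb_of_itwB (k := 6) (n := 36) nets_ok MuH0_lb_n_ok (by norm_num) (by norm_num) (tbA_pt nets_ok) (tbA_pt MuH0_lb_n_ok) (φ := look2 (nat_lit 0xd000090000a0000f0000b0000c0000e00002000080000300007000040000600005000140001800019000230001b0002100015000120001c0001f0001d00017000110001e000200001300016000220001a000100002400001) 20 64) (by decide +kernel) (by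
    rw [← cl_eq_of_slpB (k := 6) (D := [(64,[2,3,2,1,2,3,2]),
 (65,[2,1,3,2,3,1,2])]) MuH0_lb_n_ok (by norm_num) (by decide +kernel)]
    exact lb_of_chainB MuH0_lb_n_ok (C := [([1,2,3,64,65],[4,2,3,1,65,2,4,3,4,2],0,0,36),
 ([1,64,65],[2,3,1,65,2,3],1,1,21),
 ([],[1,64,65],2,2,8)]) (by decide +kernel))

theorem Mu_mb : MB (cl (gp nets) L) 420 2 :=
  mb_cyc (w := 26) (n := 19) (La := L) (ix := nth 0 [0,0,1,3,7,13]) (by norm_num) (by norm_num) (nets_iv.sval _) (nets_rel.sval fun r hr x hx => mem_cl (sub_of_allR (by decide +kernel) r hr x hx)) (by decide +kernel)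
    (TStep.trans (TStep.trans (TStep.trans (TStep.trans (TStep.trans (TStep.trans (TStep.trans (TStep.trans (TStep.trans (TStep.trans (TStep.trans (TStep.trans (TStep.repar (k' := 14) (by norm_num) (by norm_num) (by decide +kernel) (by decide +kernel) Mu1_b)
    (TStep.repar (k' := 14) (by norm_num) (by norm_num) (by decide +kernel) (by decide +kernel) Mu2_b))
    (TStep.enum0 (by norm_num) (by norm_num) Mu3_0 (Gs := Mu3G) (by decide +kernel)))
    (TStep.repar (k' := 13) (by norm_num) (by norm_num) (by decide +kernel) (by decide +kernel) Mu4_b))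
    (TStep.enum0 (by norm_num) (by norm_num) Mu5_0 (Gs := Mu5G) (by decide +kernel)))
    (TStep.repar (k' := 11) (by norm_num) (by norm_num) (by decide +kernel) (by decide +kernel) Mu6_b))
    (TStep.enum0 (by norm_num) (by norm_num) Mu7_0 (Gs := Mu7G) (by decide +kernel)))
    (TStep.repar (k' := 5) (by norm_num) (by norm_num) (by decide +kernel) (by decide +kernel) Mu8_b))
    (TStep.enum0 (by norm_num) (by norm_num) Mu9_0 (Gs := Mu9G) (by decide +kernel)))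
    (TStep.repar (k' := 4) (by norm_num) (by norm_num) (by decide +kernel) (by decide +kernel) Mu10_b))
    (TStep.enum (by norm_num) (by norm_num) Mu11_0 (I := [0,1,2,3,4,5,6,7,8,9,10,11,12]) (by decide +kernel) (by decide +kernel) MuH0_0_ord (c := 1) (lb_sval (fun _ hx => mem_cl (sub_of_subB (by decide +kernel) _ hx)) MuH0_lb (by norm_num)) (Gs := Mu11G) (by decide +kernel)))
    (TStep.repar (k' := 1) (by norm_num) (by norm_num) (by decide +kernel) (by decide +kernel) Mu12_b))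
    (TStep.cons (by norm_num) (by norm_num) (c := (nat_lit 0x1)) (v := 2) (by decide +kernel) (by decide +kernel)))
    (by norm_num) List.mem_cons_self (by norm_num)
    (TStep.repar (k' := 0) (by norm_num) (by norm_num) (by decide +kernel) (by decide +kernel) Mu14_b)
    (L := [1,2,3,4,5]) (I := [0,1,2,3,4,5,6,7,8,9,10,11,12,13,14,15,16,17,18]) (by decide +kernel) (by decide +kernel) ord card.ge (cl_sval_top _ _)

end Cfsg.Lib.Comp.J2x
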