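import Cfsg.Agent.Lib.Comp.J2x.Main
import Cfsg.Agent.Lib.Comp.Out

set_option maxRecDepth 100000
set_option Elab.async false

namespace Cfsg.Lib.Comp.J2x

universe u

noncomputable def on_1 : Net :=
 (Net.cons 64 (nat_lit 0xfedefd8020400000)
 (Net.cons 32 (nat_lit 0x12dc88f000000000fa9e7eb8)
 (Net.cons 16 (nat_lit 0x18780000ca400000407800008014)
 (Net.cons 8 (nat_lit 0x6000f80024000c00c0001800e00020)
 (Net.cons 4 (nat_lit 0x800040000040a060200000606080204)
 (Net.cons 2 (nat_lit 0x2222000002000200002022002000000)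
 (Net.cons 1 (nat_lit 0x44141441501154401044141004040101)
 (Net.cons 2 (nat_lit 0x10123111211012011021003203010001)
 (Net.cons 4 (nat_lit 0xc00000704040e0e0a05000702090204)
 (Net.cons 8 (nat_lit 0xc00b500bd008200b8003c00e00021)
 (Net.cons 16 (nat_lit 0xc4e60000b1c60000025a00008075)
 (Net.cons 32 (nat_lit 0x4ad61d7500000000fa9f7ea8)
 (Net.cons 64 (nat_lit 0xfedefd8fffff0800)
 Net.nil)))))))))))))

noncomputable def on_2 : Net :=
 (Net.cons 64 (nat_lit 0x64284970959c1acc)
 (Net.cons 32 (nat_lit 0x3b2c47000000000c1618d92)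
 (Net.cons 16 (nat_lit 0x21920000f6120000a45c000020f8)
 (Net.cons 8 (nat_lit 0x40003a0000001c004800c80068008a)
 (Net.cons 4 (nat_lit 0x80806000804080800000000020000)
 (Net.cons 2 (nat_lit 0x200000000000000200202002000)
 (Net.cons 1 (nat_lit 0x1504104104144501451110441051401)
 (Net.cons 2 (nat_lit 0x1203103101021000212300221013001)
 (Net.cons 4 (nat_lit 0x80002020f0805010b000900080005)
 (Net.cons 8 (nat_lit 0x400096006800b10042005a00e9009c)
 (Net.cons 16 (nat_lit 0x24920000d613000027cd000012b3)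
 (Net.cons 32 (nat_lit 0x2792c54200000000c8e43b1f)
 (Net.cons 64 (nat_lit 0x64284975931fdfc4)
 Net.nil)))))))))))))

noncomputable def on_3 : Net :=
 (Net.cons 64 (nat_lit 0xa70243048850c428)
 (Net.cons 32 (nat_lit 0x31060d2200000000bec06c44)
 (Net.cons 16 (nat_lit 0x6100000018980000a0cc000080c0)
 (Net.cons 8 (nat_lit 0x4000000090000400f200640002003a)
 (Net.cons 4 (nat_lit 0xa0408080a04020000080608000e0404)
 (Net.cons 2 (nat_lit 0x2020200000020020022022020002020)
 (Net.cons 1 (nat_lit 0x11040401101045015414044411404144)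
 (Net.cons 2 (nat_lit 0x2022321030120120011120220032002)
 (Net.cons 4 (nat_lit 0xa0408080a0c02000c070e07000e040b)
 (Net.cons 8 (nat_lit 0x4400070090008400f20064000a0032)
 (Net.cons 16 (nat_lit 0x61000000189a0000a0cc000089de)
 (Net.cons 32 (nat_lit 0x31060d2200000000bec06c44)
 (Net.cons 64 (nat_lit 0xa7024304c850c428)
 Net.nil)))))))))))))

noncomputable def on_4 : Net :=
 (Net.cons 64 (nat_lit 0x39082f8da4bd0c0c)
 (Net.cons 32 (nat_lit 0x40810ff400000000cecf0aa0)
 (Net.cons 16 (nat_lit 0x18b00000785800001ada000055a0)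
 (Net.cons 8 (nat_lit 0x280052000a00a4000c00200086002c)
 (Net.cons 4 (nat_lit 0xa000002080c08020208000600000602)
 (Net.cons 2 (nat_lit 0x22000222022022000000022002000)
 (Net.cons 1 (nat_lit 0x41114510444011041040405044501001)
 (Net.cons 2 (nat_lit 0x22320130021321032203122312301)
 (Net.cons 4 (nat_lit 0xa00020a060c01020602000700000603)
 (Net.cons 8 (nat_lit 0x200054002200b20000002200b200d8)
 (Net.cons 16 (nat_lit 0x10b100007a5800009216000034d7)
 (Net.cons 32 (nat_lit 0x588925f3000000000c5b1ae2)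
 (Net.cons 64 (nat_lit 0x39082f82b4545c88)
 Net.nil)))))))))))))

noncomputable def on_5 : Net :=
 (Net.cons 64 (nat_lit 0xffffffe000000000)
 (Net.cons 32 (nat_lit 0x97c7da90000000001c1a36e6)
 (Net.cons 16 (nat_lit 0xf7980000e422000014e40000697a)
 (Net.cons 8 (nat_lit 0x780050007800a000f0000e005c0044)
 (Net.cons 4 (nat_lit 0x400080806080c08060000000a0c00)
 (Net.cons 2 (nat_lit 0x20022002000000022020000022222020)
 (Net.cons 1 (nat_lit 0x11511544514141014040000111414440)
 (Net.cons 2 (nat_lit 0x32023210110102030030020121022120)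
 (Net.cons 4 (nat_lit 0xc0a0f0d0e0608060006020009020800)
 (Net.cons 8 (nat_lit 0xc1000d00b6004a00e8001c00570044)
 (Net.cons 16 (nat_lit 0xe6250000d7aa000000ec0000a97a)
 (Net.cons 32 (nat_lit 0x315d3d9000000001c1a36e6)
 (Net.cons 64 (nat_lit 0xffffffe000000000)
 Net.nil)))))))))))))

noncomputable def on_7 : Net :=
 (Net.cons 64 (nat_lit 0x60064c1ed4614040)
 (Net.cons 32 (nat_lit 0x800d244800000000404d5d00)
 (Net.cons 16 (nat_lit 0x41000005c5000004dd800002092)
 (Net.cons 8 (nat_lit 0xc000000046009800400098003800c0)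
 (Net.cons 4 (nat_lit 0xc08000a0400080a040004000c0004)
 (Net.cons 2 (nat_lit 0x200000000220000200000020000000)
 (Net.cons 1 (nat_lit 0x100000104414501100011010054100)
 (Net.cons 2 (nat_lit 0x232002211232100221100320230030)
 (Net.cons 4 (nat_lit 0xc08000a02040a0e040804020c0004)
 (Net.cons 8 (nat_lit 0xc40040004400d000480098003800c0)
 (Net.cons 16 (nat_lit 0x410000002e200004ddc0000209a)
 (Net.cons 32 (nat_lit 0xa00d244800000000404d5d00)
 (Net.cons 64 (nat_lit 0x60064c1ed4614041)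
 Net.nil)))))))))))))

noncomputable def on_10 : Net :=
 (Net.cons 64 (nat_lit 0xffffffe000000000)
 (Net.cons 32 (nat_lit 0x9ea055e40000000093130d8a)
 (Net.cons 16 (nat_lit 0xb3d00000bc2c00000418000022d8)
 (Net.cons 8 (nat_lit 0x5e004c00840070001c001000400020)
 (Net.cons 4 (nat_lit 0xc0800000804000a0008080408000c)
 (Net.cons 2 (nat_lit 0x22022200220002222000200200000002)
 (Net.cons 1 (nat_lit 0x41541154441551441000100104100044)
 (Net.cons 2 (nat_lit 0x21212100313211300001200302202002)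
 (Net.cons 4 (nat_lit 0x20307080a03080e020108080008000e)
 (Net.cons 8 (nat_lit 0xf300d10084008c000f0010000c0080)
 (Net.cons 16 (nat_lit 0x1713000017070000050b000042d4)
 (Net.cons 32 (nat_lit 0x64fb4ce20000000093130d96)
 (Net.cons 64 (nat_lit 0xffffffe000000000)
 Net.nil)))))))))))))

noncomputable def on_12 : Net :=
 (Net.cons 64 (nat_lit 0xffffffe000000000)
 (Net.cons 32 (nat_lit 0x64126cb6000000005781df70)
 (Net.cons 16 (nat_lit 0xd9a0000052980000961800002040)
 (Net.cons 8 (nat_lit 0x10008400c0000c0016004a00900020)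
 (Net.cons 4 (nat_lit 0x60200020c0c0e0c0008060208000006)
 (Net.cons 2 (nat_lit 0x22002000222000200020000200020000)
 (Net.cons 1 (nat_lit 0x41014515414414410011100110040014)
 (Net.cons 2 (nat_lit 0x1321312120210110023010020020002)
 (Net.cons 4 (nat_lit 0xb050a09040c060701010702080a0000)
 (Net.cons 8 (nat_lit 0x80001a0009005e0097000c00b80020)
 (Net.cons 16 (nat_lit 0x27e6000069190000d2190000204a)
 (Net.cons 32 (nat_lit 0x734aa8fb000000005781df70)
 (Net.cons 64 (nat_lit 0xffffffe000000000)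
 Net.nil)))))))))))))

noncomputable def on_14 : Net :=
 (Net.cons 64 (nat_lit 0xffffffe000000000)
 (Net.cons 32 (nat_lit 0xf119b1fa00000000ffff0000)
 (Net.cons 16 (nat_lit 0x5188000028b20000417000000000)
 (Net.cons 8 (nat_lit 0xf000380018009000a400400000007c)
 (Net.cons 4 (nat_lit 0xc020400040c08000e0e040000000000)
 (Net.cons 2 (nat_lit 0x2020002020200200020002000002000)
 (Net.cons 1 (nat_lit 0x54044114015404155011004400004414)
 (Net.cons 2 (nat_lit 0x13232331013133031012013300000130)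
 (Net.cons 4 (nat_lit 0x70604030c000505060c040700000b04)
 (Net.cons 8 (nat_lit 0x2a00b30057005b003c0001000000dc)
 (Net.cons 16 (nat_lit 0x8c340000f8940000416b00000000)
 (Net.cons 32 (nat_lit 0x8e475d3400000000ffff0000)
 (Net.cons 64 (nat_lit 0xffffffe000000000)
 Net.nil)))))))))))))

noncomputable def on_16 : Net :=
 (Net.cons 64 (nat_lit 0xb1e1e3c000000000)
 (Net.cons 32 (nat_lit 0xa9587f0000000000fbff9d04)
 (Net.cons 16 (nat_lit 0xa2500000a0340000003000003620)
 (Net.cons 8 (nat_lit 0xa200b0009200620002002000640004)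
 (Net.cons 4 (nat_lit 0xa00000004020c02000e020a0c0a0408)
 (Net.cons 2 (nat_lit 0x22000220200222000202000020020)
 (Net.cons 1 (nat_lit 0x1411004144400441051111050040410)
 (Net.cons 2 (nat_lit 0x2203131322303033203200110320220)
 (Net.cons 4 (nat_lit 0xb08090306030e080f030a0a0e0c0000)
 (Net.cons 8 (nat_lit 0xa00a10024006200bb0021004e0000)
 (Net.cons 16 (nat_lit 0xbb19000003120000001100007024)
 (Net.cons 32 (nat_lit 0xa9189d8000000000bffb9d20)
 (Net.cons 64 (nat_lit 0xb1e1e3c000000000)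
 Net.nil)))))))))))))

noncomputable def on_18 : Net :=
 (Net.cons 64 (nat_lit 0x8000000000000000)
 (Net.cons 32 (nat_lit 0xf00000000000000032b00000)
 (Net.cons 16 (nat_lit 0x80000000fae800000000)
 (Net.cons 8 (nat_lit 0xd000c80090005c)
 (Net.cons 4 (nat_lit 0x80802080a0e0c0c0000)
 (Net.cons 2 (nat_lit 0x202200222020200)
 (Net.cons 1 (nat_lit 0x10000005014515551441115414441114)
 (Net.cons 2 (nat_lit 0x30000001033032123111121311303230)
 (Net.cons 4 (nat_lit 0x8080b080a0e0c0a0900)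
 (Net.cons 8 (nat_lit 0x8400c800f10060009c)
 (Net.cons 16 (nat_lit 0x80000000fb7000000000)
 (Net.cons 32 (nat_lit 0xf0000000000000004b280000)
 (Net.cons 64 (nat_lit 0x8000000000000000)
 Net.nil)))))))))))))

noncomputable def on_20 : Net :=
 (Net.cons 64 (nat_lit 0x9088294e57f50848)
 (Net.cons 32 (nat_lit 0x88d03a88000000008a444c18)
 (Net.cons 16 (nat_lit 0x2bc000005b8000004c2a000022c0)
 (Net.cons 8 (nat_lit 0xf0000800040030008e006a00d0000a)
 (Net.cons 4 (nat_lit 0x80c00000800060a04080600000c)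
 (Net.cons 2 (nat_lit 0x2000000200022020002000002200)
 (Net.cons 1 (nat_lit 0x40101045400415444511001115151105)
 (Net.cons 2 (nat_lit 0x2002003000200202002102021032012)
 (Net.cons 4 (nat_lit 0x108080c04000c0f0605060c0a070d0c)
 (Net.cons 8 (nat_lit 0xf00008002d00b4008e00ea00af00a9)
 (Net.cons 16 (nat_lit 0x2bc000009b8400004c2a00002202)
 (Net.cons 32 (nat_lit 0x88d03a88000000008a444c18)
 (Net.cons 64 (nat_lit 0x9088294e57f50848)
 Net.nil)))))))))))))

noncomputable def on : List Net := [Net.nil,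
 on_1,
 on_2,
 on_3,
 on_4,
 on_5,
 Net.rev on_5,
 on_7,
 Net.rev on_1,
 Net.rev on_2,
 on_10,
 Net.rev on_10,
 on_12,
 Net.rev on_12,
 on_14,
 Net.rev on_14,
 on_16,
 Net.rev on_16,
 on_18,
 Net.rev on_18,
 on_20]

theorem on_ok : NetsOK 128 on := netsOK_of (by decide +kernel)

noncomputable def opi : Net :=
 (Net.cons 64 (nat_lit 0x4766a4d85b450460)
 (Net.cons 32 (nat_lit 0xbc4ccb4a0000000048246430)
 (Net.cons 16 (nat_lit 0x689c000012380000808a00000c96)
 (Net.cons 8 (nat_lit 0x8a00a2003a00900034002800f00062)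
 (Net.cons 4 (nat_lit 0x80000020a00060a020804080000020c)
 (Net.cons 2 (nat_lit 0x20000000020200000202002220020)
 (Net.cons 1 (nat_lit 0x40440045410010450411101441145110)
 (Net.cons 2 (nat_lit 0x21100323011010221220230002220323)
 (Net.cons 4 (nat_lit 0x70604060d01040c06090d00080b0b0d)
 (Net.cons 8 (nat_lit 0x9000a3002a0094001c00040072006a)
 (Net.cons 16 (nat_lit 0x2cd40000121d0000988e00009414)
 (Net.cons 32 (nat_lit 0xfb4ccb1a0000000048b42638)
 (Net.cons 64 (nat_lit 0x4766a4d9e07528e0)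
 Net.nil)))))))))))))

theorem opi_ok : opi.ok 128 := ok_of_netOK (by decide +kernel)

def oL : List ℕ := [1,2,3,4,5,6,8,9,10,11,12,13,14,15,16,17,18,19,20]

noncomputable def oC : List Lev := [([10,11,12,13,14,15,16,17,18,19],[1,2,3,12,14,1,10,2,3],0,0,100),
 ([14,15,16,17,18,19],[10,10,14,16,12,14,10,14,12],1,1,36),
 ([18,19],[14,16,14,18,14,16,18,14],37,37,42),
 ([],[18,18,18],38,38,4)]

noncomputable def oD : List (ℕ × List ℕ) := [(8,[1,1,1,1,1,1]),
 (9,[2,2,2,2,2]),
 (10,[3,2,2,2,1]),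
 (11,[8,9,9,9,3]),
 (12,[9,8,3,8,9]),
 (13,[2,1,3,1,2]),
 (14,[10,10,10,13,10,13,11]),
 (15,[10,12,11,12,11,11,11]),
 (16,[13,10,10]),
 (17,[11,11,12]),
 (18,[16,14,17,15,15]),
 (19,[14,14,16,15,17]),
 (4,[10,16,12,1,1,1]),
 (5,[14,17,15,10,12,11]),
 (6,[18,16,18,14,10,13,15]),
 (20,[18,18,14,17,13,3,12])]

theorem o_le : cl (gp on) oL ≤ cl (gp on) [1,2,3] := by
  rw [← cl_eq_of_slpB (k := 7) (D := oD) (L := [1,2,3]) on_ok (by norm_num) (by decide +kernel)]
  exact cl_mono (sub_of_subB (by decide +kernel))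

theorem o_m1 : gp on 1 ∈ (cl (gp nets) L).map (MulAut.conj opi.perm).toMonoidHom :=
  mem_conj_of_eqB (k := 7) (w := [3,4,3,5,3,64,4,64]) nets_ok (by norm_num) opi_ok (on_ok 1) (fun _ => mem_all) (by decide +kernel)

theorem o_m2 : gp on 2 ∈ (cl (gp nets) L).map (MulAut.conj opi.perm).toMonoidHom :=
  mem_conj_of_eqB (k := 7) (w := [3,1,2,4,64,1,5,4,3,1,5,3]) nets_ok (by norm_num) opi_ok (on_ok 2) (fun _ => mem_all) (by decide +kernel)

theorem o_m3 : gp on 3 ∈ (cl (gp nets) L).map (MulAut.conj opi.perm).toMonoidHom :=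
  mem_conj_of_eqB (k := 7) (w := [64,1,64,3,4,64,4,5,1,2]) nets_ok (by norm_num) opi_ok (on_ok 3) (fun _ => mem_all) (by decide +kernel)

theorem o_conj : cl (gp on) oL ≤ (cl (gp nets) L).map (MulAut.conj opi.perm).toMonoidHom :=
  o_le.trans (cl_le.2 (by simp only [List.forall_mem_cons]; exact ⟨o_m1, o_m2, o_m3, by simp⟩))

theorem o_ch : Nat.beq (chainB on oC oL) 604800 = true := by decide +kernel

theorem o_ex : Exact on oC oL := by
  have := nets_ok.finite L
  exact exact_of_beq ((card_le_of_conj o_conj).trans card.le) o_ch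

noncomputable def tb : ℕ → ℕ → ℕ := tbx 128 (tbk 7 4 prs7 on 128)

theorem tb_ok : TbA on tb := tbA_tbx on_ok (tbk_eq tr7 (by norm_num) (by norm_num) (by norm_num) on_ok)

noncomputable def par0 : ℕ := (nat_lit 0x20a28c24f3c12c824b3c808e24925230104244340a40c2ca30128d35134a0924cb08144b0cf3814c244c2423c80c13813914c325034330845048f2912892c334e34344c0c220a34c443200)

noncomputable def par1 : ℕ := (nat_lit 0x28e3933d238d30f2d141130c44d34b44b28a3cc34d28b2cb34d300)

noncomputable def par2 : ℕ := (nat_lit 0x41048e4d148e48e4d13d339248f4d038f3cf3d24d04514d23d2393453490380)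

noncomputable def par3 : ℕ := (nat_lit 0x493480)

noncomputable def oP : List (ℕ → ℕ) := [(fun p => look2 par0 6 256 (Nat.sub p 0)),
 (fun p => look2 par1 6 256 (Nat.sub p 1)),
 (fun p => look2 par2 6 256 (Nat.sub p 37)),
 (fun p => look2 par3 6 256 (Nat.sub p 38))]

noncomputable def cxM : ℕ := (nat_lit 0x1000280090e42ec)

theorem cx_b : centB on tb oC oL 1 0 0 100 [0,1,3,5] [] [1] [1,1,1,1,1,1] cxM = true := by decide +kernel

noncomputable def cxF (q : ℕ) : Bool := sift tb (fun e => witer tb [1] e q) [] oC oP oL [0,1,3,5] []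

theorem cxA_0 : AllM cxM 256 cxF :=
  AllM.step (lo := 0) (m := 1) (AllM.zero _ _) (by decide +kernel)

theorem cx_c : ∀ c ∈ cl (gp on) oL, Commute c (gp on 1) → c ∈ cl (gp on) [1] := fun _ hc hz =>
  Exact.cent on_ok tb_ok o_ex cx_b cxA_0 (by norm_num) (by norm_num) hc hz

noncomputable def cyM : ℕ := (nat_lit 0x10000000009016c)

theorem cy_b : centB on tb oC oL 4 0 0 100 [0,3,1,2] [] [4,20] [4,20,4,4,4,4] cyM = true := by decide +kernel

noncomputable def cyF (q : ℕ) : Bool := sift tb (fun e => witer tb [4] e q) [] oC oP oL [0,3,1,2] []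

theorem cyA_0 : AllM cyM 256 cyF :=
  AllM.step (lo := 0) (m := 1) (AllM.zero _ _) (by decide +kernel)

theorem cy_c : ∀ c ∈ cl (gp on) oL, Commute c (gp on 4) → c ∈ cl (gp on) [4,20] := fun _ hc hz =>
  Exact.cent on_ok tb_ok o_ex cy_b cyA_0 (by norm_num) (by norm_num) hc hz

noncomputable def parO : ℕ := (nat_lit 0x4000500000000000000000000000500514000100000000000000004100000000000000000000000000000000500000000000500000000100)

noncomputable def oO : ℕ := (nat_lit 0x48000b2006000008083)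

noncomputable def oR : List (List ℕ × ℕ) := [([1,3],6),
 ([1,1,2,3],6)]

theorem o_b : outB on tb (bases oC) oL 7 3 1 5 0 oR [4,20] oO = true := by decide +kernel

noncomputable def oF (q : ℕ) : Bool := walk tb (fun p => look2 parO 6 256 (Nat.sub p 0)) (msk [4,20]) 0 (fun ws => allL [1] (candB tb oR [(1,0),
 (1,1)] 15 q ws)) 1000 q []

theorem oA_0 : AllM oO 256 oF :=
  AllM.step (lo := 0) (m := 1) (AllM.zero _ _) (by decide +kernel)

theorem o_phi {Γ : Type*} [Group Γ] (e : Γ ≃* cl (gp nets) L) : ∃ φ : Γ →* Equiv.Perm ℕ, Function.Injective φ ∧ φ.range = cl (gp on) oL := by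
  have := nets_ok.finite L
  exact relabel e _ o_conj (card.trans_le (lb_of_chainB on_ok o_ch))

theorem out_le {Γ : Type*} [Group Γ] (e : Γ ≃* cl (gp nets) L) : Finite (Out Γ) ∧ Nat.card (Out Γ) ≤ 2 := by
  obtain ⟨φ, h1, h2⟩ := o_phi e
  exact card_out_le on_ok tb_ok o_ex o_b cy_b cy_c (by norm_num) h1 h2 o_le (m := 86400) (J := 6) (by norm_num)
    (((Nat.card_congr e.toEquiv).trans card).trans (by norm_num)) (by norm_num) (by norm_num) cx_c (by decide +kernel) (by norm_num) oA_0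

noncomputable def oG (q : ℕ) : Bool := walk tb (fun p => look2 parO 6 256 (Nat.sub p 0)) (msk [4,20]) 0 (fun ws =>
  cnd (Nat.beq (wap tb [1] (wap tb (5 :: rva ws [6]) 2)) (wap tb (5 :: rva ws [6]) (wap tb [1] 2)))
    (cnd (Nat.beq (wap tb [3] (wap tb (5 :: rva ws [6]) 2)) (wap tb (5 :: rva ws [6]) (wap tb [3,5,4,4,4,6] 2))) false true) true) 1000 q []

theorem oB_0 : AllM oO 256 oG :=
  AllM.step (lo := 0) (m := 1) (AllM.zero _ _) (by decide +kernel)

theorem o_rho : ∀ r ∈ [(1, [1]), (2, [2]), (3, [3,5,4,4,4,6])], gp on 7 * gp on r.1 * (gp on 7)⁻¹ = ev (gp on) r.2 := by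
  intro r hr
  have := eq_of_eqB (k := 7) on_ok (by norm_num) (allL_iff.1 (show allL [(1, [1]), (2, [2]), (3, [3,5,4,4,4,6])]
    (fun r => eqB 128 7 0 7 on [7, r.1] 0 (apd r.2 [7])) = true by decide +kernel) r hr)
  rw [mul_inv_eq_iff_eq_mul]
  simpa [apd_eq, ev] using this

theorem out_eq {Γ : Type*} [Group Γ] (e : Γ ≃* cl (gp nets) L) : Nat.card (Out Γ) = 2 := by
  obtain ⟨φ, h1, h2⟩ := o_phi e
  have a1 := o_rho _ List.mem_cons_self
  have a2 := o_rho _ (List.mem_cons_of_mem _ List.mem_cons_self)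
  have a3 := o_rho _ (List.mem_cons_of_mem _ (List.mem_cons_of_mem _ List.mem_cons_self))
  obtain ⟨σ, hσ⟩ := aut_of_norm on_ok h1 h2 o_le (ρ := gp on 7) (by
    simp only [List.forall_mem_cons]
    rw [a1, a2, a3]
    refine ⟨?_, ?_, ?_, by simp⟩ <;> exact ev_mem fun x hx => mem_cl (sub_of_subB (by decide +kernel) x hx))
  exact card_out_eq_two (out_le e) ⟨σ, not_inner on_ok tb_ok o_ex o_b cy_b cy_c (by norm_num) h2 (by norm_num) oB_0 σ
    (fun g h => by rw [hσ, h, a1]) (fun g h => by rw [hσ, h, a2, ev_single]) (fun g h => by rw [hσ, h, a3])⟩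

end Cfsg.Lib.Comp.J2x
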