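import Cfsg.Agent.Lib.Comp.J2x.Base

set_option maxRecDepth 100000
set_option Elab.async false

namespace Cfsg.Lib.Comp.J2x

universe u

noncomputable def nets_1 : Net :=
 (Net.cons 64 (nat_lit 0xc704864000000000)
 (Net.cons 32 (nat_lit 0xc7eaa40000000000092d3400)
 (Net.cons 16 (nat_lit 0x42800004b44000058ac00003000)
 (Net.cons 8 (nat_lit 0x4200c0004000b60008008200700004)
 (Net.cons 4 (nat_lit 0xc04000008000802000a0404020a0800)
 (Net.cons 2 (nat_lit 0x22000020002002200002200000000)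
 (Net.cons 1 (nat_lit 0x44000410044104150504110510000)
 (Net.cons 2 (nat_lit 0x3022000020020012233322202300300)
 (Net.cons 4 (nat_lit 0xc0c000a0800070a000a0404060a0808)
 (Net.cons 8 (nat_lit 0x4600c0005400b60008008200700004)
 (Net.cons 16 (nat_lit 0x42800004b44000058ac00003000)
 (Net.cons 32 (nat_lit 0xc7eaa60000000000092d3400)
 (Net.cons 64 (nat_lit 0xc704864000000000)
 Net.nil)))))))))))))

noncomputable def nets_2 : Net :=
 (Net.cons 64 (nat_lit 0x1384844000000000)
 (Net.cons 32 (nat_lit 0x53a6c10000000000c4696200)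
 (Net.cons 16 (nat_lit 0xa00000baf8000034500000f412)
 (Net.cons 8 (nat_lit 0x400000004800d0008200280000006c)
 (Net.cons 4 (nat_lit 0xa040408040200020406060000)
 (Net.cons 2 (nat_lit 0x2202020000200200002000)
 (Net.cons 1 (nat_lit 0x5054114011000451405454400)
 (Net.cons 2 (nat_lit 0x100022200100000200213030200)
 (Net.cons 4 (nat_lit 0x4000a0004040c0209020406060e06)
 (Net.cons 8 (nat_lit 0x42004000d1005a008200280060007c)
 (Net.cons 16 (nat_lit 0xa00000bcb100003c500000f412)
 (Net.cons 32 (nat_lit 0x53a6c10000000000c4696200)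
 (Net.cons 64 (nat_lit 0x1384844000000000)
 Net.nil)))))))))))))

noncomputable def nets_3 : Net :=
 (Net.cons 64 (nat_lit 0x7918240000000000)
 (Net.cons 32 (nat_lit 0x7dd890040000000082001110)
 (Net.cons 16 (nat_lit 0x9c400000482c00008e600000cc00)
 (Net.cons 8 (nat_lit 0x20004c000600e4008000b400000004)
 (Net.cons 4 (nat_lit 0xc0a02000e080400000000000200060c)
 (Net.cons 2 (nat_lit 0x2200200002002020000220020002000)
 (Net.cons 1 (nat_lit 0x1100405501104010001440040101100)
 (Net.cons 2 (nat_lit 0x12221203312002020220220032010330)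
 (Net.cons 4 (nat_lit 0xc0a02000e080c060004010c00080f0c)
 (Net.cons 8 (nat_lit 0x20004c003e00e4008000b400000004)
 (Net.cons 16 (nat_lit 0x9c400000482c00008ee00000b600)
 (Net.cons 32 (nat_lit 0x7dd890040000000082001110)
 (Net.cons 64 (nat_lit 0x7918240000000000)
 Net.nil)))))))))))))

noncomputable def nets_4 : Net :=
 (Net.cons 64 (nat_lit 0xa79978e000000000)
 (Net.cons 32 (nat_lit 0x476891400000000001088310)
 (Net.cons 16 (nat_lit 0x2e820000adc20000920800002c88)
 (Net.cons 8 (nat_lit 0x2004000c400ba00c0000200500048)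
 (Net.cons 4 (nat_lit 0x2000a0c08000a000004000000080e)
 (Net.cons 2 (nat_lit 0x2000002202202000000000202020002)
 (Net.cons 1 (nat_lit 0x41010141441404050100010114440054)
 (Net.cons 2 (nat_lit 0x2103000022220220000100202200202)
 (Net.cons 4 (nat_lit 0x20a000a02080908000c0400000e080e)
 (Net.cons 8 (nat_lit 0x200e400c4001400c0000200500048)
 (Net.cons 16 (nat_lit 0x2e820000bdc20000920800002c88)
 (Net.cons 32 (nat_lit 0x67e891410000000001088310)
 (Net.cons 64 (nat_lit 0xa79978e000000000)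
 Net.nil)))))))))))))

noncomputable def nets_5 : Net :=
 (Net.cons 64 (nat_lit 0x40e9801b67768100)
 (Net.cons 32 (nat_lit 0x6262c5000000000099890800)
 (Net.cons 16 (nat_lit 0x200000045000000b04000001174)
 (Net.cons 8 (nat_lit 0x20004a000000400088000000200084)
 (Net.cons 4 (nat_lit 0xe0c0000000800080e00000c000000)
 (Net.cons 2 (nat_lit 0x20000200000220002000020002220222)
 (Net.cons 1 (nat_lit 0x40054101001114541010040001440411)
 (Net.cons 2 (nat_lit 0x20200210000231300221320012220222)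
 (Net.cons 4 (nat_lit 0xe0c0008040500020e00000e00010d)
 (Net.cons 8 (nat_lit 0x20004a000000dc0096000000200084)
 (Net.cons 16 (nat_lit 0x200000045000000b04000005974)
 (Net.cons 32 (nat_lit 0x6262c5020000000099890800)
 (Net.cons 64 (nat_lit 0x40e9801b67768100)
 Net.nil)))))))))))))

noncomputable def nets_64 : Net :=
 (Net.cons 64 (nat_lit 0x8000000000000000)
 (Net.cons 32 (nat_lit 0xf00000000000000020000000)
 (Net.cons 16 (nat_lit 0x80000000f00000000000)
 (Net.cons 8 (nat_lit 0xc000800080007400e000fc)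
 (Net.cons 4 (nat_lit 0x808000000020a000c0600)
 (Net.cons 2 (nat_lit 0x220020000000200022000)
 (Net.cons 1 (nat_lit 0x10000001451414514411145451541414)
 (Net.cons 2 (nat_lit 0x30000003010113213333011123302330)
 (Net.cons 4 (nat_lit 0x8080c090a030c090a0f00)
 (Net.cons 8 (nat_lit 0xc000800080006a00e000fc)
 (Net.cons 16 (nat_lit 0x80000000e80000000000)
 (Net.cons 32 (nat_lit 0xf00000000000000040000000)
 (Net.cons 64 (nat_lit 0x8000000000000000)
 Net.nil)))))))))))))

noncomputable def nets : List Net := (apd [Net.nil,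
 nets_1,
 nets_2,
 nets_3,
 nets_4,
 nets_5,
 Net.nil,
 Net.nil,
 Net.nil,
 Net.nil,
 Net.nil,
 Net.nil,
 Net.nil,
 Net.nil,
 Net.nil,
 Net.nil,
 Net.nil,
 Net.nil,
 Net.nil,
 Net.nil,
 Net.nil,
 Net.nil,
 Net.nil,
 Net.nil,
 Net.nil,
 Net.nil,
 Net.nil,
 Net.nil,
 Net.nil,
 Net.nil,
 Net.nil,
 Net.nil,
 Net.nil,
 Net.nil,
 Net.nil,
 Net.nil,
 Net.nil,
 Net.nil,
 Net.nil,
 Net.nil]
 [Net.nil,
 Net.nil,
 Net.nil,
 Net.nil,
 Net.nil,
 Net.nil,
 Net.nil,
 Net.nil,
 Net.nil,
 Net.nil,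
 Net.nil,
 Net.nil,
 Net.nil,
 Net.nil,
 Net.nil,
 Net.nil,
 Net.nil,
 Net.nil,
 Net.nil,
 Net.nil,
 Net.nil,
 Net.nil,
 Net.nil,
 Net.nil,
 nets_64,
 Net.rev nets_64])

theorem nets_ok : NetsOK 128 nets := netsOK_of (by decide +kernel)

theorem nets_rel : Rels (gp nets) R := rels_of_relsB (k := 7) nets_ok (by norm_num) (by decide +kernel)

theorem nets_iv : IvOK (gp nets) iv := ivOK_of_ivB (k := 7) nets_ok (by norm_num) (by decide +kernel)

noncomputable def slp : List (ℕ × List ℕ) := [(64,[1,3,2,1,3,2,1,3]),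
 (65,[3,1,2,3,1,2,3,1])]

theorem slp_ok : slpB 128 7 nets slp L = true := by decide +kernel

theorem mem_all {x : ℕ} (h : x ∈ L ++ slp.map (·.1)) : gp nets x ∈ cl (gp nets) L :=
  cl_eq_of_slpB nets_ok (by norm_num) slp_ok ▸ mem_cl h

theorem lb : 604800 ≤ Nat.card (cl (gp nets) L) := by
  rw [← cl_eq_of_slpB nets_ok (by norm_num) slp_ok]
  exact lb_of_chainB nets_ok (C := [([1,2,3,4,64,65],[5,1,3,4,64,2,3,64,5,1,3,4],0,0,100),
 ([1,2,3,64,65],[4,2,3,1,64,4,64,3,2,1],1,1,36),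
 ([64,65],[1,3,2,64,3,1,2],37,37,42),
 ([],[64,64,64],79,79,4)]) (by decide +kernel)

end Cfsg.Lib.Comp.J2x
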