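import Cfsg.Agent.Lib.Comp.J2x.Base

set_option maxRecDepth 100000
set_option Elab.async false

namespace Cfsg.Lib.Comp.J2x

universe u

noncomputable def T1_R : List (List ℕ × ℕ) := [([1],1),
 ([2],1),
 ([1,2],2),
 ([3],1),
 ([1,3],2),
 ([2,3],3),
 ([1,2,3,2,3],2),
 ([4],1),
 ([1,4],1),
 ([2,4],2),
 ([3,4],2),
 ([2,3,2,4],2),
 ([1,2,3,2,4],2)]

noncomputable def T1_n_1 : Net :=
 (Net.cons 20 (nat_lit 0xad000)
 (Net.cons 10 (nat_lit 0x28600048)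
 (Net.cons 5 (nat_lit 0x10180400a)
 (Net.cons 1 (nat_lit 0x8481290a4)
 (Net.cons 1 (nat_lit 0x1010a5094a)
 (Net.cons 1 (nat_lit 0x808129084)
 (Net.cons 1 (nat_lit 0x50140)
 (Net.cons 1 (nat_lit 0x28020)
 (Net.cons 5 (nat_lit 0x10180680a)
 (Net.cons 10 (nat_lit 0x28600048)
 (Net.cons 20 (nat_lit 0xad000)
 Net.nil)))))))))))

noncomputable def T1_n_2 : Net :=
 (Net.cons 20 (nat_lit 0x72000)
 (Net.cons 10 (nat_lit 0x38800060)
 (Net.cons 5 (nat_lit 0x300001008)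
 (Net.cons 1 (nat_lit 0x2840500080)
 (Net.cons 1 (nat_lit 0x5084210002)
 (Net.cons 1 (nat_lit 0x284a500000)
 (Net.cons 1 (nat_lit 0x5004000000)
 (Net.cons 1 (nat_lit 0x2800000000)
 (Net.cons 5 (nat_lit 0x300005408)
 (Net.cons 10 (nat_lit 0x38c00060)
 (Net.cons 20 (nat_lit 0x72000)
 Net.nil)))))))))))

noncomputable def T1_n_3 : Net :=
 (Net.cons 20 (nat_lit 0x40000)
 (Net.cons 10 (nat_lit 0x100000c0)
 (Net.cons 5 (nat_lit 0x180401c)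
 (Net.cons 1 (nat_lit 0x100520400)
 (Net.cons 1 (nat_lit 0x210a4284a)
 (Net.cons 1 (nat_lit 0x84210a4)
 (Net.cons 1 (nat_lit 0xa02942)
 (Net.cons 1 (nat_lit 0x100400)
 (Net.cons 5 (nat_lit 0x1404006)
 (Net.cons 10 (nat_lit 0x11e000c0)
 (Net.cons 20 (nat_lit 0x40000)
 Net.nil)))))))))))

noncomputable def T1_n_4 : Net :=
 (Net.cons 20 (nat_lit 0x9f080)
 (Net.cons 10 (nat_lit 0x2c4002b0)
 (Net.cons 5 (nat_lit 0x1800810)
 (Net.cons 1 (nat_lit 0x9000080a1)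
 (Net.cons 1 (nat_lit 0x1014a40140)
 (Net.cons 1 (nat_lit 0x808000080)
 (Net.cons 1 (nat_lit 0x14000140)
 (Net.cons 1 (nat_lit 0x20)
 (Net.cons 5 (nat_lit 0x1801810)
 (Net.cons 10 (nat_lit 0x2c5002b0)
 (Net.cons 20 (nat_lit 0x9f080)
 Net.nil)))))))))))

noncomputable def T1_n : List Net := [Net.nil,
 T1_n_1,
 T1_n_2,
 T1_n_3,
 T1_n_4]

theorem T1_n_ok : NetsOK 40 T1_n := netsOK_of (by decide +kernel)

theorem T1_n_rel : Rels (gp T1_n) T1_R := rels_of_relsB (k := 6) T1_n_ok (by norm_num) (by decide +kernel)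

theorem T1_fin : finB 40 T1_n [1,2,3,4] 36 (runH 40 T1_n (fun x p => ptInv (nth Net.nil T1_n x) p) iv T1_R [] ([1,2,3].map fun x => [x]) 0 []
  [1,5,9,0,4,8,12,16,20,28,32,36,40,44,8,16,32,36,40,44,8,16,36,48,8,20,36,24,16,40,48,0,8,16,40,24,8,36,44,48,0,16,36,8,24,36,40,44,16,20,36,24]
  (defsH 40 T1_n (ones 240) [4,2,3,4,1,2,3,4,1,2,3,4] (Nat.shiftLeft 1 0) 0)) = true := by decide +kernel

theorem T1_idx : Idx.{u} iv (T1_R ++ []) ([1,2,3].map fun x => [x]) [1,2,3,4] 36 :=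
  Reach.idx T1_n_ok (reach_runH T1_n_ok (fun x p _ => ptInv_gp T1_n_ok x p) T1_n_rel (reach_defsH T1_n_ok _ _ _ _ _ _) _ _) T1_fin (by norm_num)

end Cfsg.Lib.Comp.J2x
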